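import Groth.Prelude.Def_EGA41
import Groth.Agent.CAlgCohen.Lift
import Mathlib

/-! Cohen rings (in the wide sense) lift local maps to complete Noetherian local rings. -/

set_option autoImplicit false

namespace Groth.Agent.CohenLift

universe u

open IsLocalRing

theorem isLocalRing {W : Type u} [CommRing W] (hW : EGA41.IsCohenRingEGA W) : IsLocalRing W := by
  rcases hW with ⟨h, _⟩ | ⟨_, _, _⟩
  · letI := h.toField; infer_instance
  · infer_instance

/-- The lifting property along nilpotent surjections. -/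
theorem exists_lift_nilpotent {W : Type u} [CommRing W] [IsLocalRing W]
    (hW : EGA41.IsCohenRingEGA W) {T T' : Type u} [CommRing T] [CommRing T'] (q : T →+* T')
    (hq : Function.Surjective q) (hnil : IsNilpotent (RingHom.ker q)) (f : W →+* T')
    (hf : ∀ x ∈ maximalIdeal W, IsNilpotent (f x)) :
    ∃ F : W →+* T, q.comp F = f := by
  rcases hW with ⟨hF, h0⟩ | ⟨_, _, hc, p, hp, hm⟩
  · letI : Field W := hF.toField
    haveI := h0
    have hu : ∀ y : nonZeroDivisors ℤ, IsUnit (algebraMap ℤ T y) := fun y => by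
      have h1 : IsUnit (q (algebraMap ℤ T y)) := by
        have : IsUnit (f ((y : ℤ) : W)) :=
          (Ne.isUnit (Int.cast_ne_zero.2 (nonZeroDivisors.ne_zero y.2))).map f
        rwa [eq_intCast, map_intCast, ← map_intCast f]
      obtain ⟨v, hv⟩ := hq (↑(h1.unit⁻¹) : T')
      have h2 : q (algebraMap ℤ T y * v - 1) = 0 := by
        rw [map_sub, map_mul, hv, IsUnit.mul_val_inv, map_one, sub_self]
      obtain ⟨n, hn⟩ := hnil
      have h3 : IsNilpotent (algebraMap ℤ T y * v - 1) :=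
        ⟨n, by simpa [hn] using Ideal.pow_mem_pow (RingHom.mem_ker.2 h2) n⟩
      have := h3.isUnit_add_one
      rw [sub_add_cancel] at this
      exact isUnit_of_mul_isUnit_left this
    letI : Algebra ℚ T := (IsLocalization.lift (S := ℚ) hu).toAlgebra
    letI : Algebra ℚ T' := (q.comp (algebraMap ℚ T)).toAlgebra
    let qa : T →ₐ[ℚ] T' := { q with commutes' := fun _ => rfl }
    let e : (T ⧸ RingHom.ker qa) ≃ₐ[ℚ] T' := Ideal.quotientKerAlgEquivOfSurjective (f := qa) hq
    let fa : W →ₐ[ℚ] T' :=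
      { f with commutes' := fun c => RingHom.congr_fun (Subsingleton.elim
          (f.comp (algebraMap ℚ W)) (algebraMap ℚ T')) c }
    obtain ⟨t, ht⟩ := exists_isTranscendenceBasis ℚ W
    haveI := ht.isAlgebraic_field
    haveI : Algebra.IsSeparable (IntermediateField.adjoin ℚ (Set.range ((↑) : t → W))) W :=
      inferInstance
    haveI : Algebra.FormallySmooth ℚ W :=
      Algebra.FormallySmooth.of_algebraicIndependent_of_isSeparable ht.1
    obtain ⟨w, hw⟩ := Algebra.FormallySmooth.exists_lift (R := ℚ) (A := W) (RingHom.ker qa) hnil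
      (e.symm.toAlgHom.comp fa)
    refine ⟨w.toRingHom, RingHom.ext fun x => ?_⟩
    have h := congrArg e (AlgHom.congr_fun hw x)
    simp only [AlgHom.comp_apply, AlgEquiv.toAlgHom_apply] at h
    rw [e.apply_symm_apply] at h
    exact h
  · obtain ⟨m, hm'⟩ := hnil
    obtain ⟨a, ha⟩ := hf (p : W) (hm ▸ Ideal.subset_span rfl)
    rw [map_natCast] at ha
    have h1 : (p : T) ^ a ∈ RingHom.ker q := by rw [RingHom.mem_ker, map_pow, map_natCast, ha]
    have h2 : (p : T) ^ (a * m) = 0 := by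
      simpa [pow_mul, hm'] using Ideal.pow_mem_pow h1 m
    exact CAlgCohen.exists_lift_step hp hm q hq ⟨m, hm'⟩ (a * m + 1) (by omega)
      (by rw [pow_succ, h2, zero_mul]) f

/-- Two maps agreeing modulo `I ⊔ I'` glue to a map modulo `I ⊓ I'`. -/
theorem exists_glue {W C : Type u} [CommRing W] [CommRing C] (I I' : Ideal C) (a : W →+* C ⧸ I)
    (b : W →+* C ⧸ I')
    (h : (Ideal.Quotient.factor (le_sup_left : I ≤ I ⊔ I')).comp a =
      (Ideal.Quotient.factor (le_sup_right : I' ≤ I ⊔ I')).comp b) :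
    ∃ c : W →+* C ⧸ (I ⊓ I'),
      (Ideal.Quotient.factor (inf_le_left : I ⊓ I' ≤ I)).comp c = a ∧
      (Ideal.Quotient.factor (inf_le_right : I ⊓ I' ≤ I')).comp c = b := by
  let φ : C ⧸ (I ⊓ I') →+* (C ⧸ I) × (C ⧸ I') :=
    (Ideal.Quotient.factor inf_le_left).prod (Ideal.Quotient.factor inf_le_right)
  have hφ : Function.Injective φ := by
    rw [injective_iff_map_eq_zero]
    intro z hz
    obtain ⟨z, rfl⟩ := Ideal.Quotient.mk_surjective z
    simp only [φ, RingHom.prod_apply, Ideal.Quotient.factor_mk, Prod.mk_eq_zero,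
      Ideal.Quotient.eq_zero_iff_mem] at hz
    exact Ideal.Quotient.eq_zero_iff_mem.2 hz
  have hr : ∀ x, (a x, b x) ∈ φ.range := fun x => by
    obtain ⟨y, hy⟩ := Ideal.Quotient.mk_surjective (a x)
    obtain ⟨z, hz⟩ := Ideal.Quotient.mk_surjective (b x)
    have h1 := RingHom.congr_fun h x
    simp only [RingHom.comp_apply, ← hy, ← hz, Ideal.Quotient.factor_mk] at h1
    obtain ⟨i, hi, j, hj, hij⟩ := Submodule.mem_sup.1 (Ideal.Quotient.eq.1 h1)
    refine ⟨Ideal.Quotient.mk _ (y - i), ?_⟩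
    simp only [φ, RingHom.prod_apply, Ideal.Quotient.factor_mk, Prod.mk.injEq]
    refine ⟨?_, ?_⟩
    · rw [← hy, Ideal.Quotient.eq]; simpa using hi
    · rw [← hz, Ideal.Quotient.eq]
      rwa [show y - i - z = j by rw [← sub_eq_zero]; linear_combination -hij]
  choose c hc using hr
  refine ⟨{ toFun := c, map_one' := hφ ?_, map_mul' := fun x y => hφ ?_, map_zero' := hφ ?_,
            map_add' := fun x y => hφ ?_ }, RingHom.ext fun x => congrArg Prod.fst (hc x),
    RingHom.ext fun x => congrArg Prod.snd (hc x)⟩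
  all_goals simp [hc, Prod.ext_iff]

/-- Cohen rings lift local maps to complete Noetherian local rings. -/
theorem exists_lift {W C : Type u} [CommRing W] [IsLocalRing W] (hW : EGA41.IsCohenRingEGA W)
    [CommRing C] [IsLocalRing C] [IsNoetherianRing C] [IsAdicComplete (maximalIdeal C) C]
    (J : Ideal C) (hJ : J ≠ ⊤) (u : W →+* C ⧸ J)
    (hu : ∀ x ∈ maximalIdeal W, Ideal.Quotient.factor (le_maximalIdeal hJ) (u x) = 0) :
    ∃ v : W →+* C, (Ideal.Quotient.mk J).comp v = u := by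
  set 𝔪 := maximalIdeal C with h𝔪
  let K : ℕ → Ideal C := fun n => J ⊔ 𝔪 ^ (n + 1)
  let un : ∀ n, W →+* C ⧸ K n := fun n => (Ideal.Quotient.factor le_sup_left).comp u
  let P : ∀ n, (W →+* C ⧸ 𝔪 ^ (n + 1)) → Prop := fun n v =>
    (Ideal.Quotient.factor (le_sup_right : 𝔪 ^ (n + 1) ≤ K n)).comp v = un n
  have step : ∀ (n : ℕ) (v : W →+* C ⧸ 𝔪 ^ (n + 1)), P n v →
      ∃ w : W →+* C ⧸ 𝔪 ^ (n + 2), P (n + 1) w ∧
        (Ideal.Quotient.factorPow 𝔪 (Nat.le_succ (n + 1))).comp w = v := by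
    intro n v hv
    have hle : K (n + 1) ≤ K n := sup_le_sup_left (Ideal.pow_le_pow_right (Nat.le_succ _)) _
    have hsup : 𝔪 ^ (n + 1) ⊔ K (n + 1) = K n := le_antisymm (sup_le le_sup_right hle)
      (sup_le (le_sup_left.trans le_sup_right) le_sup_left)
    have hglue : (Ideal.Quotient.factor (le_sup_left : 𝔪 ^ (n + 1) ≤ 𝔪 ^ (n + 1) ⊔ K (n + 1))).comp v =
        (Ideal.Quotient.factor (le_sup_right : K (n + 1) ≤ 𝔪 ^ (n + 1) ⊔ K (n + 1))).comp
          (un (n + 1)) := by
      refine RingHom.ext fun x => ?_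
      have h1 := congrArg (Ideal.Quotient.factor hsup.ge) (RingHom.congr_fun hv x)
      obtain ⟨y, hy⟩ := Ideal.Quotient.mk_surjective (v x)
      obtain ⟨z, hz⟩ := Ideal.Quotient.mk_surjective (u x)
      simp only [RingHom.comp_apply, un, ← hy, ← hz, Ideal.Quotient.factor_mk] at h1 ⊢
      exact h1
    obtain ⟨c, hc1, hc2⟩ := exists_glue _ _ v (un (n + 1)) hglue
    have hle' : 𝔪 ^ (n + 2) ≤ 𝔪 ^ (n + 1) ⊓ K (n + 1) :=
      le_inf (Ideal.pow_le_pow_right (Nat.le_succ _)) le_sup_right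
    have hnilp : ∀ z : C ⧸ (𝔪 ^ (n + 1) ⊓ K (n + 1)),
        Ideal.Quotient.factor (inf_le_right.trans
          (sup_le (le_maximalIdeal hJ) (Ideal.pow_le_self (by omega)))) z = 0 → IsNilpotent z := by
      intro z hz
      obtain ⟨z, rfl⟩ := Ideal.Quotient.mk_surjective z
      rw [Ideal.Quotient.factor_mk, Ideal.Quotient.eq_zero_iff_mem] at hz
      exact ⟨n + 2, by
        rw [← map_pow, Ideal.Quotient.eq_zero_iff_mem]; exact hle' (Ideal.pow_mem_pow hz _)⟩
    obtain ⟨w, hw⟩ := exists_lift_nilpotent hW (Ideal.Quotient.factor hle')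
      (Ideal.Quotient.factor_surjective hle') ⟨n + 2, by
        rw [Ideal.Quotient.factor_ker, ← Ideal.map_pow, Ideal.zero_eq_bot,
          Ideal.map_eq_bot_iff_le_ker, Ideal.mk_ker]
        exact Ideal.pow_right_mono (inf_le_left.trans (Ideal.pow_le_self (by omega))) _⟩
      c (fun x hx => hnilp _ (by
        have h2 := congrArg (Ideal.Quotient.factor (sup_le (le_maximalIdeal hJ)
          (Ideal.pow_le_self (by omega)) : K (n + 1) ≤ 𝔪)) (RingHom.congr_fun hc2 x)
        have h3 := hu x hx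
        obtain ⟨y, hy⟩ := Ideal.Quotient.mk_surjective (c x)
        obtain ⟨z, hz⟩ := Ideal.Quotient.mk_surjective (u x)
        simp only [RingHom.comp_apply, un, ← hy, ← hz, Ideal.Quotient.factor_mk] at h2 h3 ⊢
        exact h2.trans h3))
    refine ⟨w, ?_, ?_⟩
    · refine RingHom.ext fun x => ?_
      have h2 := RingHom.congr_fun hc2 x
      have h3 := RingHom.congr_fun hw x
      obtain ⟨y, hy⟩ := Ideal.Quotient.mk_surjective (w x)
      simp only [RingHom.comp_apply, ← hy, Ideal.Quotient.factor_mk] at h2 h3 ⊢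
      rw [← h3] at h2
      simpa using h2
    · refine RingHom.ext fun x => ?_
      have h2 := RingHom.congr_fun hc1 x
      have h3 := RingHom.congr_fun hw x
      obtain ⟨y, hy⟩ := Ideal.Quotient.mk_surjective (w x)
      simp only [RingHom.comp_apply, ← hy, Ideal.Quotient.factor_mk] at h2 h3 ⊢
      rw [← h3] at h2
      simpa [Ideal.Quotient.factorPow] using h2
  choose next hnextP hnext using step
  have hK0 : K 0 = 𝔪 ^ 1 := by simp [K, le_maximalIdeal hJ, h𝔪]
  let v0 : W →+* C ⧸ 𝔪 ^ 1 := (Ideal.Quotient.factor hK0.le).comp (un 0)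
  have hP0 : P 0 v0 := RingHom.ext fun x => by
    obtain ⟨z, hz⟩ := Ideal.Quotient.mk_surjective (u x)
    simp [v0, un, ← hz]; rfl
  let s : ∀ n : ℕ, {v : W →+* C ⧸ 𝔪 ^ (n + 1) // P n v} := fun n => n.rec ⟨v0, hP0⟩
    (fun m v => ⟨next m v.1 v.2, hnextP m v.1 v.2⟩)
  let f : ∀ n : ℕ, W →+* C ⧸ 𝔪 ^ (n + 1) := fun n => (s n).1
  have ha : StrictMono fun n : ℕ => n + 1 := fun a b h => by simpa using h
  have hf : ∀ {m : ℕ}, (Ideal.Quotient.factorPow 𝔪 (ha.monotone m.le_succ)).comp (f (m + 1)) = f m :=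
    fun {m} => hnext m (s m).1 (s m).2
  refine ⟨IsAdicComplete.StrictMono.liftRingHom 𝔪 ha f hf, RingHom.ext fun x => ?_⟩
  obtain ⟨z, hz⟩ := Ideal.Quotient.mk_surjective (u x)
  rw [RingHom.comp_apply, ← hz, Ideal.Quotient.eq]
  -- `J` is closed
  haveI : Nontrivial (C ⧸ J) := Ideal.Quotient.nontrivial_iff.mpr hJ
  set y := IsAdicComplete.StrictMono.liftRingHom 𝔪 ha f hf x - z
  have hmem : ∀ n, y ∈ K n := fun n => by
    have h1 := IsAdicComplete.StrictMono.mk_liftRingHom 𝔪 ha f (fun {m} => hf) (n := n) x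
    have h2 := RingHom.congr_fun (s n).2 x
    simp only [RingHom.comp_apply, un, ← hz, Ideal.Quotient.factor_mk] at h2
    rw [show (s n).1 x = f n x from rfl, ← h1, Ideal.Quotient.factor_mk, Ideal.Quotient.eq] at h2
    exact h2
  rw [← Ideal.Quotient.eq_zero_iff_mem]
  have hne : 𝔪.map (Ideal.Quotient.mk J) ≠ ⊤ := fun h => (maximalIdeal.isMaximal C).ne_top (by
    have h' := congrArg (Ideal.comap (Ideal.Quotient.mk J)) h
    rwa [Ideal.comap_map_of_surjective _ Ideal.Quotient.mk_surjective, Ideal.comap_top,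
      ← RingHom.ker_eq_comap_bot, Ideal.mk_ker, sup_eq_left.2 (le_maximalIdeal hJ)] at h')
  haveI : IsLocalRing (C ⧸ J) := .of_surjective' _ Ideal.Quotient.mk_surjective
  rw [← Ideal.mem_bot, ← Ideal.iInf_pow_eq_bot_of_isLocalRing _ hne, Ideal.mem_iInf]
  intro n
  rw [← Ideal.map_pow]
  have h4 := Ideal.mem_map_of_mem (Ideal.Quotient.mk J) (hmem n)
  rw [Ideal.map_sup, Ideal.map_quotient_self, bot_sup_eq] at h4
  exact Ideal.map_mono (Ideal.pow_le_pow_right (Nat.le_succ n)) h4

end Groth.Agent.CohenLift
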