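import Groth.Agent.CohenLift.Basic
import Mathlib

/-! Cohen rings with isomorphic residue fields are isomorphic. -/

set_option autoImplicit false

namespace Groth.Agent.CohenLift

universe u

open IsLocalRing

theorem isNoetherianRing {W : Type u} [CommRing W] (hW : EGA41.IsCohenRingEGA W) :
    IsNoetherianRing W := by
  rcases hW with ⟨h, _⟩ | ⟨_, _, _⟩
  · letI := h.toField; infer_instance
  · infer_instance

theorem isAdicComplete {W : Type u} [CommRing W] [IsLocalRing W] (hW : EGA41.IsCohenRingEGA W) :
    IsAdicComplete (maximalIdeal W) W := by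
  rcases hW with ⟨h, _⟩ | ⟨_, _, hc, _⟩
  · rw [isField_iff_maximalIdeal_eq.1 h]; infer_instance
  · exact hc

/-- A map of Cohen rings inducing a bijection of residue fields is bijective. -/
theorem bijective_of_residue {W W' : Type u} [CommRing W] [IsLocalRing W] [CommRing W']
    [IsLocalRing W'] (hW : EGA41.IsCohenRingEGA W) (hW' : EGA41.IsCohenRingEGA W') (v : W →+* W')
    [IsLocalHom v] (h : Function.Bijective (ResidueField.map v)) : Function.Bijective v := by
  rcases hW' with ⟨hF', h0'⟩ | ⟨_, _, hc', q, hq, hm'⟩
  · letI : Field W' := hF'.toField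
    rcases hW with ⟨hF, h0⟩ | ⟨_, _, hc, p, hp, hm⟩
    · letI : Field W := hF.toField
      refine ⟨v.injective, fun y => ?_⟩
      obtain ⟨r, hr⟩ := h.2 (residue W' y)
      obtain ⟨x, rfl⟩ := residue_surjective r
      rw [ResidueField.map_residue] at hr
      refine ⟨x, sub_eq_zero.1 ?_⟩
      have h3 : v x - y ∈ maximalIdeal W' := Ideal.Quotient.eq.1 hr
      rwa [isField_iff_maximalIdeal_eq.1 hF', Ideal.mem_bot] at h3
    · exfalso
      have h1 : residue W (p : W) = 0 := by
        rw [residue_eq_zero_iff, hm]; exact Ideal.subset_span rfl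
      have h2 := congrArg (ResidueField.map v) h1
      rw [map_natCast, map_natCast, map_zero] at h2
      haveI := h0'
      have : IsUnit ((p : W')) := Ne.isUnit (Nat.cast_ne_zero.2 hp.ne_zero)
      exact (residue_ne_zero_iff_isUnit _).2 this (by rw [map_natCast]; exact h2)
  · haveI := hc'
    have hvq : v (q : W) = q := map_natCast v q
    have hqm : (q : W) ∈ maximalIdeal W := fun hu =>
      (mem_maximalIdeal _).1 (hm' ▸ Ideal.subset_span rfl : (q : W') ∈ maximalIdeal W') (hvq ▸ hu.map v)
    have hmap : (maximalIdeal W).map v = maximalIdeal W' := by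
      refine le_antisymm (IsLocalRing.map_maximalIdeal_le v) ?_
      rw [hm', Ideal.span_le, Set.singleton_subset_iff, ← hvq]
      exact Ideal.mem_map_of_mem v hqm
    haveI := isAdicComplete hW
    haveI : IsHausdorff ((maximalIdeal W).map v) W' := by rw [hmap]; infer_instance
    have hsurj : Function.Surjective v := surjective_of_mk_map_comp_surjective v (fun y => by
      obtain ⟨y, rfl⟩ := Ideal.Quotient.mk_surjective y
      obtain ⟨r, hr⟩ := h.2 (residue W' y)
      obtain ⟨x, rfl⟩ := residue_surjective r
      rw [ResidueField.map_residue] at hr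
      refine ⟨x, ?_⟩
      rw [RingHom.comp_apply, Ideal.Quotient.eq, hmap]
      exact Ideal.Quotient.eq.1 hr)
    refine ⟨?_, hsurj⟩
    have hq0 : (q : W') ≠ 0 := fun h => IsDiscreteValuationRing.not_a_field W'
      (by rw [hm', h, Ideal.span_singleton_zero])
    rw [RingHom.injective_iff_ker_eq_bot]
    rcases hW with ⟨hF, _⟩ | ⟨_, _, hc, p, hp, hm⟩
    · letI : Field W := hF.toField
      exact (RingHom.injective_iff_ker_eq_bot v).1 v.injective
    · by_contra hne
      haveI : (RingHom.ker v).IsPrime := RingHom.ker_isPrime v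
      have := IsLocalRing.eq_maximalIdeal (Ideal.IsPrime.isMaximal this hne)
      exact hq0 (by rw [← hvq, ← RingHom.mem_ker, this]; exact hqm)

theorem exists_iso {W W' : Type u} [CommRing W] [IsLocalRing W] [CommRing W'] [IsLocalRing W']
    (hW : EGA41.IsCohenRingEGA W) (hW' : EGA41.IsCohenRingEGA W')
    (u : ResidueField W ≃+* ResidueField W') :
    ∃ v : W ≃+* W', ∀ x : W, residue W' (v x) = u (residue W x) := by
  haveI := isNoetherianRing hW'
  haveI := isAdicComplete hW'
  have hne := (maximalIdeal.isMaximal W').ne_top
  obtain ⟨v, hv⟩ := exists_lift hW (maximalIdeal W') hne (u.toRingHom.comp (residue W))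
    (fun x hx => by
      have : residue W x = 0 := (residue_eq_zero_iff x).2 hx
      have h1 : (u.toRingHom.comp (residue W)) x = 0 := by rw [RingHom.comp_apply, this, map_zero]
      exact (congrArg _ h1).trans (map_zero _))
  have hv' : ∀ x, residue W' (v x) = u (residue W x) := fun x => RingHom.congr_fun hv x
  haveI : IsLocalHom v := ⟨fun x hx => (residue_ne_zero_iff_isUnit x).1 fun h0 =>
    (residue_ne_zero_iff_isUnit _).2 hx (by rw [hv', h0, map_zero])⟩
  have hmap : ∀ r, ResidueField.map v r = u r := fun r => by
    obtain ⟨x, rfl⟩ := residue_surjective r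
    rw [ResidueField.map_residue, hv']
  have hb : Function.Bijective (ResidueField.map v) := by
    rw [show (ResidueField.map v : ResidueField W → ResidueField W') = u from funext hmap]
    exact u.bijective
  exact ⟨RingEquiv.ofBijective v (bijective_of_residue hW hW' v hb), hv'⟩

end Groth.Agent.CohenLift
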